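import Cfsg.Agent.Eq.Def_Classical
import Cfsg.Agent.Eq.Def_ClassicalGeometry
import Cfsg.Agent.Classical.Symp.Simple
import Cfsg.Agent.Classical.Symp.Card
import Cfsg.Agent.Classical.Unitary.Simple
import Cfsg.Agent.Classical.Unitary.Center

/-!
# `PSU₄(2) ≅ PSp₄(3)` through the two actions on forty points
-/

set_option autoImplicit false

namespace CfsgLib.UFourTwo

open Matrix Cfsg

/-- The field with four elements, `re + im·ω`. -/
@[ext] structure F4m where
  re : ZMod 2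
  im : ZMod 2
deriving DecidableEq, Fintype

namespace F4m

instance instZero : Zero F4m := ⟨⟨0, 0⟩⟩
instance instOne : One F4m := ⟨⟨1, 0⟩⟩
instance instAdd : Add F4m := ⟨fun x y => ⟨x.re + y.re, x.im + y.im⟩⟩
instance instNeg : Neg F4m := ⟨fun x => x⟩
instance instMul : Mul F4m :=
  ⟨fun x y => ⟨x.re * y.re + x.im * y.im, x.re * y.im + x.im * y.re + x.im * y.im⟩⟩
instance instInv : Inv F4m := ⟨fun x => x * x⟩

instance instCommRing : CommRing F4m where
  add_assoc := by decide +kernel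
  zero_add := by decide +kernel
  add_zero := by decide +kernel
  nsmul := nsmulRec
  zsmul := zsmulRec
  neg_add_cancel := by decide +kernel
  add_comm := by decide +kernel
  left_distrib := by decide +kernel
  right_distrib := by decide +kernel
  zero_mul := by decide +kernel
  mul_zero := by decide +kernel
  mul_assoc := by decide +kernel
  one_mul := by decide +kernel
  mul_one := by decide +kernel
  mul_comm := by decide +kernel

instance instField : Field F4m where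
  exists_pair_ne := ⟨0, 1, by decide +kernel⟩
  mul_inv_cancel := by decide +kernel
  inv_zero := by decide +kernel
  nnqsmul := _
  qsmul := _

theorem card_eq : Fintype.card F4m = 4 := by decide +kernel

/-- The element `ω`. -/
def w : F4m := ⟨0, 1⟩

/-- The element with a given code. -/
def ofCode (n : ℕ) : F4m := ⟨((n % 2 : ℕ) : ZMod 2), ((n / 2 % 2 : ℕ) : ZMod 2)⟩

/-- The code of an element. -/
def code (x : F4m) : ℕ := x.re.val + 2 * x.im.val

end F4m

def pointsP : List ℕ := [27, 9, 36, 63, 3, 30, 57, 12, 39, 66, 21, 48, 75, 1, 28, 55, 10, 37, 64, 19, 46, 73, 4, 31, 58, 13, 40, 67, 22, 49, 76, 7, 34, 61, 16, 43, 70, 25, 52, 79]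
def pointsQ : List ℕ := [64, 16, 4, 1, 69, 133, 197, 201, 73, 137, 141, 205, 77, 21, 57, 45, 37, 25, 61, 53, 41, 29, 84, 148, 212, 100, 164, 228, 116, 180, 244, 81, 209, 145, 97, 225, 161, 113, 241, 177]
def tableP : List (Fin 40) := [0, 13, 13, 4, 22, 31, 4, 31, 22, 1, 16, 19, 7, 25, 37, 10, 34, 28, 1, 19, 16, 10, 28, 34, 7, 37, 25, 0, 14, 15, 5, 23, 33, 6, 32, 24, 2, 17, 21, 8, 26, 39, 12, 35, 30, 3, 20, 18, 11, 29, 36, 9, 38, 27, 0, 15, 14, 6, 24, 32, 5, 33, 23, 3, 18, 20, 9, 27, 38, 11, 36, 29, 2, 21, 17, 12, 30, 35, 8, 39, 26]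
def tableQ : List (Fin 40) := [0, 3, 3, 3, 2, 0, 0, 0, 2, 0, 0, 0, 2, 0, 0, 0, 1, 0, 0, 0, 0, 13, 18, 20, 0, 17, 19, 15, 0, 21, 14, 16, 1, 0, 0, 0, 0, 16, 21, 14, 0, 20, 13, 18, 0, 15, 17, 19, 1, 0, 0, 0, 0, 19, 15, 17, 0, 14, 16, 21, 0, 18, 20, 13, 0, 0, 0, 0, 0, 4, 11, 9, 0, 8, 6, 10, 0, 12, 7, 5, 0, 31, 38, 36, 22, 0, 0, 0, 30, 0, 0, 0, 26, 0, 0, 0, 0, 34, 32, 39, 25, 0, 0, 0, 24, 0, 0, 0, 29, 0, 0, 0, 0, 37, 35, 33, 28, 0, 0, 0, 27, 0, 0, 0, 23, 0, 0, 0, 0, 0, 0, 0, 0, 5, 12, 7, 0, 9, 4, 11, 0, 10, 8, 6, 0, 33, 37, 35, 23, 0, 0, 0, 28, 0, 0, 0, 27, 0, 0, 0, 0, 36, 31, 38, 26, 0, 0, 0, 22, 0, 0, 0, 30, 0, 0, 0, 0, 39, 34, 32, 29, 0, 0, 0, 25, 0, 0, 0, 24, 0, 0, 0, 0, 0, 0, 0, 0, 6, 10, 8, 0, 7, 5, 12, 0, 11, 9, 4, 0, 32, 39, 34, 24, 0, 0, 0, 29, 0, 0, 0, 25, 0, 0, 0, 0, 35, 33, 37, 27, 0, 0, 0, 23, 0, 0, 0, 28, 0, 0, 0, 0, 38, 36, 31, 30, 0, 0, 0, 26, 0, 0, 0, 22, 0, 0, 0]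

abbrev V3 : Type := Fin 2 ⊕ Fin 2 → ZMod 3
abbrev V4 : Type := Fin 4 → F4m

/-- The `i`-th point of `P(F₃⁴)`. -/
def ptP (i : Fin 40) : V3 :=
  let n := pointsP.getD i.1 0
  Sum.elim ![((n % 3 : ℕ) : ZMod 3), ((n / 3 % 3 : ℕ) : ZMod 3)]
    ![((n / 9 % 3 : ℕ) : ZMod 3), ((n / 27 % 3 : ℕ) : ZMod 3)]

/-- The index of the point spanned by a vector. -/
def idxP (v : V3) : Fin 40 :=
  tableP.getD ((v (.inl 0)).val + 3 * (v (.inl 1)).val + 9 * (v (.inr 0)).val + 27 * (v (.inr 1)).val) 0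

/-- The `i`-th non-isotropic point of `P(F₄⁴)`. -/
def ptQ (i : Fin 40) : V4 :=
  let n := pointsQ.getD i.1 0
  ![F4m.ofCode (n % 4), F4m.ofCode (n / 4 % 4), F4m.ofCode (n / 16 % 4), F4m.ofCode (n / 64 % 4)]

/-- The index of the point spanned by a non-isotropic vector. -/
def idxQ (v : V4) : Fin 40 :=
  tableQ.getD ((v 0).code + 4 * (v 1).code + 16 * (v 2).code + 64 * (v 3).code) 0

theorem idxP_ptP : ∀ i, idxP (ptP i) = i := by decide +kernel

theorem ptP_ne : ∀ i, ptP i ≠ 0 := by decide +kernel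

theorem ptP_idxP : ∀ v : V3, v ≠ 0 → v = ptP (idxP v) ∨ v = -ptP (idxP v) := by decide +kernel

theorem idxP_neg : ∀ v : V3, idxP (-v) = idxP v := by decide +kernel

theorem idxQ_ptQ : ∀ i, idxQ (ptQ i) = i := by decide +kernel

theorem norm_ptQ : ∀ i, hermForm 4 F4m 2 (ptQ i) (ptQ i) = 1 := by decide +kernel

theorem ptQ_idxQ : ∀ v : V4, hermForm 4 F4m 2 v v = 1 → ∃ c : F4m, c ≠ 0 ∧ v = c • ptQ (idxQ v) := by
  decide +kernel

theorem idxQ_smul : ∀ c : F4m, c ≠ 0 → ∀ i, idxQ (c • ptQ i) = i := by decide +kernel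

theorem idxP_mulVec (g : Matrix (Fin 2 ⊕ Fin 2) (Fin 2 ⊕ Fin 2) (ZMod 3)) {v : V3} (hv : v ≠ 0) :
    idxP (g *ᵥ ptP (idxP v)) = idxP (g *ᵥ v) := by
  rcases ptP_idxP v hv with h | h
  · rw [← h]
  · conv_rhs => rw [h, mulVec_neg, idxP_neg]

theorem idxQ_mulVec {g : Matrix (Fin 4) (Fin 4) F4m}
    (hg : ∀ u v, hermForm 4 F4m 2 (g *ᵥ u) (g *ᵥ v) = hermForm 4 F4m 2 u v) {v : V4}
    (hv : hermForm 4 F4m 2 v v = 1) : idxQ (g *ᵥ ptQ (idxQ v)) = idxQ (g *ᵥ v) := by
  obtain ⟨c, hc, h⟩ := ptQ_idxQ v hv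
  obtain ⟨d, hd, h'⟩ := ptQ_idxQ (g *ᵥ ptQ (idxQ v)) (by rw [hg, norm_ptQ])
  conv_rhs => rw [h, mulVec_smul, h', smul_smul, idxQ_smul _ (mul_ne_zero hc hd)]

abbrev Sp3 : Type := Matrix.symplecticGroup (Fin 2) (ZMod 3)
abbrev SU2 : Type := ↥(Cfsg.SU 4 F4m 2)

/-- The action of `Sp₄(3)` on forty points. -/
noncomputable def permP : Sp3 →* Equiv.Perm (Fin 40) :=
  haveI : Fact (Nat.Prime 3) := ⟨Nat.prime_three⟩
  MonoidHom.toHomPerm
    { toFun := fun g i => idxP (g.1 *ᵥ ptP i)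
      map_one' := funext fun i => by
        show idxP ((1 : Matrix _ _ (ZMod 3)) *ᵥ ptP i) = i
        rw [one_mulVec, idxP_ptP]
      map_mul' := fun g k => funext fun i => by
        show idxP ((g.1 * k.1) *ᵥ ptP i) = idxP (g.1 *ᵥ ptP (idxP (k.1 *ᵥ ptP i)))
        have hk : k.1 *ᵥ ptP i ≠ 0 := fun h => ptP_ne i (by
          have := congrArg ((k⁻¹ : Sp3).1 *ᵥ ·) h
          simp only [mulVec_mulVec, mulVec_zero] at this
          rwa [← Submonoid.coe_mul, inv_mul_cancel, Submonoid.coe_one, one_mulVec] at this)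
        rw [idxP_mulVec _ hk, mulVec_mulVec] }

/-- The action of `SU₄(2)` on forty points. -/
noncomputable def permQ : SU2 →* Equiv.Perm (Fin 40) :=
  MonoidHom.toHomPerm
    { toFun := fun g i => idxQ (g.1.1 *ᵥ ptQ i)
      map_one' := funext fun i => by
        show idxQ ((1 : Matrix _ _ F4m) *ᵥ ptQ i) = i
        rw [one_mulVec, idxQ_ptQ]
      map_mul' := fun g k => funext fun i => by
        show idxQ ((g.1.1 * k.1.1) *ᵥ ptQ i) = idxQ (g.1.1 *ᵥ ptQ (idxQ (k.1.1 *ᵥ ptQ i)))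
        rw [idxQ_mulVec (CfsgLib.Unitary.mem_SU.1 g.2)
          (by rw [CfsgLib.Unitary.mem_SU.1 k.2, norm_ptQ]), mulVec_mulVec] }

/-- The special unitary multiple of the unitary reflection at the `i`-th point. -/
def reflMat (i : Fin 40) : Matrix (Fin 4) (Fin 4) F4m :=
  Matrix.of fun r c => F4m.w * ((if r = c then 1 else 0) + F4m.w * (ptQ i r * (ptQ i c * ptQ i c)))

theorem reflMat_det : ∀ i, (reflMat i).det = 1 := by decide +kernel

theorem reflMat_unitary : ∀ i, (reflMat i)ᵀ * (reflMat i).map (fun x => x * x) = 1 := by decide +kernel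

theorem sq_ringHom : ∀ x y : F4m, (x + y) ^ 2 = x ^ 2 + y ^ 2 := by decide +kernel

theorem mem_SU_of_unitary {M : Matrix.SpecialLinearGroup (Fin 4) F4m}
    (h : (M.1)ᵀ * M.1.map (fun x => x * x) = 1) : M ∈ Cfsg.SU 4 F4m 2 := by
  intro u v
  have key : ∀ a b : V4, hermForm 4 F4m 2 a b = a ⬝ᵥ (fun i => b i * b i) := by
    intro a b
    simp [hermForm, dotProduct, sq]
  show hermForm 4 F4m 2 (M.1 *ᵥ u) (M.1 *ᵥ v) = _
  have e2 : (fun i => (M.1 *ᵥ v) i * (M.1 *ᵥ v) i) = M.1.map (fun x => x * x) *ᵥ (fun i => v i * v i) := by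
    funext i
    simp only [Matrix.mulVec, dotProduct, Fin.sum_univ_four, Matrix.map_apply, ← sq, sq_ringHom, mul_pow]
  rw [key, key, e2, dotProduct_mulVec, ← vecMul_transpose, vecMul_vecMul, h, vecMul_one]

/-- The reflection as an element of `SU₄(2)`. -/
def refl (i : Fin 40) : SU2 := ⟨⟨reflMat i, reflMat_det i⟩, mem_SU_of_unitary (reflMat_unitary i)⟩

/-- The transvection at a point, on vectors. -/
def transvVec (i : Fin 40) (x : V3) : V3 :=
  x + (x (.inl 0) * -ptP i (.inr 0) + x (.inl 1) * -ptP i (.inr 1) + x (.inr 0) * ptP i (.inl 0) +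
    x (.inr 1) * ptP i (.inl 1)) • ptP i

theorem transv_eq_refl : ∀ i j, idxP (transvVec i (ptP j)) = idxQ (reflMat i *ᵥ ptQ j) := by decide +kernel

theorem sympForm_two (x y : V3) :
    Cfsg.sympForm 2 (ZMod 3) x y = x (.inl 0) * -y (.inr 0) + x (.inl 1) * -y (.inr 1) +
      x (.inr 0) * y (.inl 0) + x (.inr 1) * y (.inl 1) := by
  simp [Cfsg.sympForm, Matrix.J, dotProduct, Matrix.mulVec, Fintype.sum_sum_type, Fin.sum_univ_two,
    Matrix.one_apply]
  ring

theorem permP_apply (g : Sp3) (i : Fin 40) : permP g i = idxP (g.1 *ᵥ ptP i) := rfl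

theorem permQ_apply (g : SU2) (i : Fin 40) : permQ g i = idxQ (g.1.1 *ᵥ ptQ i) := rfl

theorem transvVec_eq [Fact (Nat.Prime 3)] (i : Fin 40) (x : V3) :
    transvVec i x = (CfsgLib.Classical.Symp.spT (ptP i) (1 : ZMod 3)).1 *ᵥ x := by
  rw [CfsgLib.Classical.Symp.spT_mulVec, one_mul, sympForm_two, transvVec]

theorem refl_coe (i : Fin 40) : (refl i).1.1 = reflMat i := rfl

theorem permP_spT [Fact (Nat.Prime 3)] (i : Fin 40) :
    permP (CfsgLib.Classical.Symp.spT (ptP i) 1) = permQ (refl i) := by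
  refine Equiv.ext fun j => ?_
  rw [permP_apply, permQ_apply, refl_coe, ← transv_eq_refl, transvVec_eq]

theorem three_cases : ∀ c : ZMod 3, c = 0 ∨ c = 1 ∨ c = 1 + 1 := by decide

theorem two_ne_zero_three : (2 : ZMod 3) ≠ 0 := by decide

theorem range_permP_le [Fact (Nat.Prime 3)] : permP.range ≤ permQ.range := by
  rw [MonoidHom.range_eq_map, ← CfsgLib.Classical.Symp.closure_transvectionSet (m := 2) (F := ZMod 3),
    MonoidHom.map_closure, Subgroup.closure_le]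
  rintro _ ⟨A, ⟨v, c, hA⟩, rfl⟩
  have hA' : A = CfsgLib.Classical.Symp.spT v c := Subtype.ext hA
  subst hA'
  have h1 : permP (CfsgLib.Classical.Symp.spT v (1 : ZMod 3)) ∈ permQ.range := by
    by_cases hv : v = 0
    · rw [hv, CfsgLib.Classical.Symp.spT_zero_left, map_one]; exact one_mem _
    rcases ptP_idxP v hv with h | h <;> rw [h]
    · exact ⟨_, (permP_spT _).symm⟩
    · rw [CfsgLib.Classical.Symp.spT_neg]; exact ⟨_, (permP_spT _).symm⟩
  rcases three_cases c with rfl | rfl | rfl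
  · rw [CfsgLib.Classical.Symp.spT_zero, map_one]; exact one_mem _
  · exact h1
  · rw [CfsgLib.Classical.Symp.spT_add, map_mul]; exact mul_mem h1 h1

/-- A non-trivial homomorphism from a perfect group that is simple modulo its centre kills at most the centre. -/
theorem injective_lift_center {S H : Type*} [Group S] [Group H] (f : S →* H)
    (hsimp : IsSimpleGroup (S ⧸ Subgroup.center S)) (hc : Subgroup.center S ≤ f.ker) (hf : f ≠ 1) :
    Function.Injective (QuotientGroup.lift _ f hc) := by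
  rw [← MonoidHom.ker_eq_bot_iff]
  rcases hsimp.eq_bot_or_eq_top_of_normal _ (MonoidHom.normal_ker (QuotientGroup.lift _ f hc)) with h | h
  · exact h
  · exfalso
    refine hf (MonoidHom.ext fun x => ?_)
    have : (QuotientGroup.mk x : S ⧸ Subgroup.center S) ∈ (QuotientGroup.lift _ f hc).ker := h ▸ Subgroup.mem_top _
    simpa using this

theorem psu_equiv_psp : Nonempty (Cfsg.PSU 4 F4m 2 ≃* Cfsg.PSp 2 (ZMod 3)) := by
  classical
  haveI : Fact (Nat.Prime 3) := ⟨Nat.prime_three⟩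
  have hF : Fintype.card F4m = 2 ^ 2 := F4m.card_eq
  have hperf : commutator Sp3 = ⊤ :=
    CfsgLib.Classical.Symp.commutator_eq_top (Or.inr (Or.inl ⟨rfl, by simp⟩))
  have hsP := CfsgLib.Classical.Symp.isSimpleGroup_quotient_center (m := 2) (F := ZMod 3) (by norm_num) hperf
  have hsQ := CfsgLib.Unitary.isSimpleGroup_PSU (n := 4) hF (by norm_num) (fun h => by omega)
  have hcP : Subgroup.center Sp3 ≤ permP.ker := by
    intro z hz
    refine MonoidHom.mem_ker.2 (Equiv.ext fun i => ?_)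
    show idxP (z.1 *ᵥ ptP i) = i
    rcases CfsgLib.Classical.Symp.mem_center_iff.1 hz with h | h
    · rw [h, one_mulVec, idxP_ptP]
    · rw [h, neg_mulVec, one_mulVec, idxP_neg, idxP_ptP]
  have hcQ : Subgroup.center SU2 ≤ permQ.ker := by
    have hb : Subgroup.center SU2 = ⊥ := Subgroup.eq_bot_of_card_eq _ (by
      rw [CfsgLib.Unitary.card_center_SU hF (by norm_num)]; rfl)
    rw [hb]; exact bot_le
  have hfP : permP ≠ 1 := by
    intro h
    have e0 : reflMat 0 *ᵥ ptQ 39 = reflMat 0 *ᵥ ptQ 39 := rfl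
    have h1 : ∀ j : Fin 40, idxQ (reflMat 0 *ᵥ ptQ j) = j := fun j => by
      have := DFunLike.congr_fun (DFunLike.congr_fun h (CfsgLib.Classical.Symp.spT (ptP 0) 1)) j
      rw [permP_spT] at this
      exact this
    exact absurd h1 (by decide +kernel)
  have hfQ : permQ ≠ 1 := by
    intro h
    refine hfP (MonoidHom.ext fun x => ?_)
    obtain ⟨y, hy⟩ := range_permP_le ⟨x, rfl⟩
    rw [← hy, h]; rfl
  let P := QuotientGroup.lift _ permP hcP
  let Q := QuotientGroup.lift _ permQ hcQ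
  have hP : Function.Injective P := injective_lift_center _ hsP hcP hfP
  have hQ : Function.Injective Q := injective_lift_center _ hsQ hcQ hfQ
  have hle : P.range ≤ Q.range := by
    rintro _ ⟨x, rfl⟩
    obtain ⟨x, rfl⟩ := QuotientGroup.mk_surjective x
    obtain ⟨y, hy⟩ := range_permP_le ⟨x, rfl⟩
    exact ⟨QuotientGroup.mk y, hy⟩
  have hcard : Nat.card (Cfsg.PSp 2 (ZMod 3)) = Nat.card (Cfsg.PSU 4 F4m 2) := by
    have h1 := Subgroup.card_eq_card_quotient_mul_card_subgroup (Subgroup.center Sp3)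
    rw [CfsgLib.Classical.Symp.card_symplecticGroup,
      CfsgLib.Classical.Symp.card_center_of_two_ne_zero (by norm_num) two_ne_zero_three, ZMod.card] at h1
    have h2 := CfsgLib.Unitary.card_PSU hF (n := 4) (by norm_num)
    norm_num [Finset.prod_range_succ, show ¬ Even 3 by decide, -Nat.card_eq_fintype_card] at h1 h2
    change _ = Nat.card (Cfsg.PSp 2 (ZMod 3)) * 2 at h1
    omega
  have heq : P.range = Q.range :=
    Subgroup.eq_of_le_of_card_ge hle (by
      rw [← Nat.card_congr (MonoidHom.ofInjective hP).toEquiv, ← Nat.card_congr (MonoidHom.ofInjective hQ).toEquiv,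
        hcard])
  exact ⟨(MonoidHom.ofInjective hQ).trans ((MulEquiv.subgroupCongr heq.symm).trans (MonoidHom.ofInjective hP).symm)⟩

end CfsgLib.UFourTwo
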